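import Groth.Agent.TorsLineGlueLib.Line
import Groth.Agent.TorsLineGlueLib.Glue
import Mathlib.RingTheory.AdjoinRoot
import Mathlib.Algebra.Polynomial.Reverse

/-!
# Torsors on the affine line trivial away from a finite closed subscheme
-/

set_option autoImplicit false
set_option backward.isDefEq.respectTransparency false
set_option maxHeartbeats 400000
universe u

open CategoryTheory CategoryTheory.Limits MonoidalCategory CartesianMonoidalCategory AlgebraicGeometry
open scoped MonObj
open TorsPatchLib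

attribute [-instance] CategoryTheory.Hom.commGroup

noncomputable section

namespace TorsLineGlueLib

/-- The complement of the zero locus. -/
abbrev compl {A : Type u} [CommRing A] (I : Ideal A) : (Spec (CommRingCat.of A)).Opens :=
  ⟨(PrimeSpectrum.zeroLocus (I : Set A))ᶜ, (PrimeSpectrum.isClosed_zeroLocus _).isOpen_compl⟩

/-- A map whose points avoid `V(I)` factors through the complement. -/
theorem exists_lift_compl {A : Type u} [CommRing A] (I : Ideal A) {f : A} (hf : f ∈ I) {T : Scheme.{u}}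
    (φ : T ⟶ Spec (CommRingCat.of A)) (h : ∀ x : T, f ∉ PrimeSpectrum.asIdeal (φ x)) :
    ∃ l : T ⟶ (compl I).toScheme, l ≫ (compl I).ι = φ := by
  refine ⟨IsOpenImmersion.lift (compl I).ι φ ?_, IsOpenImmersion.lift_fac _ _ _⟩
  rintro _ ⟨x, rfl⟩
  rw [Scheme.Opens.range_ι]
  exact fun hx => h x (hx hf)

variable {R : Type u} [CommRing R]

/-- A basic open of the line. -/
abbrev basic (g : Polynomial R) : Over (Spec (CommRingCat.of (Polynomial R))) :=
  Over.mk (Spec.map (CommRingCat.ofHom (algebraMap (Polynomial R) (Localization.Away g))))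

instance isOpenImmersion_basic (g : Polynomial R) : IsOpenImmersion (basic g).hom :=
  IsOpenImmersion.of_isLocalization g

theorem range_basic (g : Polynomial R) :
    Set.range (basic g).hom = (PrimeSpectrum.basicOpen g : Set (PrimeSpectrum (Polynomial R))) :=
  PrimeSpectrum.localization_away_comap_range (Localization.Away g) g

theorem exists_to_basic (g : Polynomial R) {T : Over (Spec (CommRingCat.of (Polynomial R)))}
    (h : ∀ x : T.left, g ∉ PrimeSpectrum.asIdeal (T.hom x)) : Nonempty (T ⟶ basic g) := by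
  refine ⟨Over.homMk (IsOpenImmersion.lift (basic g).hom T.hom ?_) (IsOpenImmersion.lift_fac _ _ _)⟩
  rintro _ ⟨x, rfl⟩
  rw [range_basic]
  exact h x

theorem notMem_of_hom_basic (g : Polynomial R) {T : Over (Spec (CommRingCat.of (Polynomial R)))} (v : T ⟶ basic g)
    (x : T.left) : g ∉ PrimeSpectrum.asIdeal (T.hom x) := by
  have hx : T.hom x ∈ Set.range (basic g).hom := ⟨v.left x, by rw [← Scheme.Hom.comp_apply, Over.w]⟩
  rw [range_basic] at hx
  exact hx

variable {G : Over (Spec (CommRingCat.of R))} [GrpObj G]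

/-- The point of a descended torsor under a point of the torsor on the line. -/
theorem exists_point {Z : NonAbH1.TorsorSch (Red.bc (pL R) G) Scheme.fppfPrecoverage}
    {P : NonAbH1.TorsorSch G Scheme.fppfPrecoverage} (e : NonAbH1.EquivIso (P.act.bc (pL R)) Z.act)
    {T : Scheme.{u}} (σ : T ⟶ Z.X.left) : ∃ τ : T ⟶ P.X.left, τ ≫ P.X.hom = σ ≫ Z.X.hom ≫ pL R := by
  refine ⟨σ ≫ e.iso.inv.left ≫ pullback.fst P.X.hom (pL R), ?_⟩
  rw [Category.assoc, Category.assoc, pullback.condition]
  congr 1
  exact (Category.assoc _ _ _).symm.trans (congrArg (· ≫ pL R) (Over.w e.iso.inv))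

variable [LocallyOfFinitePresentation G.hom]

/-- Trivial away from a finite closed subscheme of the line implies trivial, from the local case. -/
theorem hasSection
    (hloc : ∀ (m : Ideal R) [m.IsMaximal] (Z : NonAbH1.TorsorSch (Red.bc (pL R) G) Scheme.fppfPrecoverage)
      (f : Polynomial (Localization.AtPrime m)), f.Monic →
      NonAbH1.HasSectionOver Z.X ((compl (Ideal.span {f})).ι ≫
        Spec.map (CommRingCat.ofHom (Polynomial.mapRingHom (algebraMap R (Localization.AtPrime m))))) →
      NonAbH1.HasSectionOver Z.X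
        (Spec.map (CommRingCat.ofHom (Polynomial.mapRingHom (algebraMap R (Localization.AtPrime m))))))
    (X : NonAbH1.TorsorSch (Red.bc (pL R) G) Scheme.fppfPrecoverage)
    (I : Ideal (Polynomial R)) (f : Polynomial R) (hf : f.Monic) (hfI : f ∈ I)
    (hX : NonAbH1.HasSectionOver X.X (compl I).ι) :
    NonAbH1.HasSectionOver X.X (𝟙 (Spec (CommRingCat.of (Polynomial R)))) := by
  obtain ⟨s, hs⟩ := hX
  let q : ∀ (m : Ideal R) [m.IsMaximal],
      Spec (CommRingCat.of (Polynomial (Localization.AtPrime m))) ⟶ Spec (CommRingCat.of (Polynomial R)) := fun m _ =>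
    Spec.map (CommRingCat.ofHom (Polynomial.mapRingHom (algebraMap R (Localization.AtPrime m))))
  have hXloc : ∀ (m : Ideal R) [m.IsMaximal], NonAbH1.HasSectionOver X.X (q m) := by
    intro m _
    let fm := f.map (algebraMap R (Localization.AtPrime m))
    refine hloc m X fm (hf.map _) ?_
    obtain ⟨l, hl⟩ := exists_lift_compl I hfI ((compl (Ideal.span {fm})).ι ≫ q m) fun x hx => by
      have hx' : (compl (Ideal.span {fm})).ι x ∈ (compl (Ideal.span {fm}) : Set _) := by
        rw [← Scheme.Opens.range_ι]; exact ⟨x, rfl⟩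
      exact hx' (SetLike.coe_subset_coe.2 ((Ideal.span_singleton_le_iff_mem _).2 hx))
    exact ⟨l ≫ s, by rw [Category.assoc, hs, hl]⟩
  obtain ⟨P, ⟨e⟩⟩ := descends_of_local X hXloc
  -- the chart at infinity
  let ft := f.reverse
  let U1 := basic (Polynomial.X : Polynomial R)
  let U2 := basic ft
  let O := basic ((Polynomial.X : Polynomial R) * ft)
  let B := Localization.Away ((Polynomial.X : Polynomial R) * ft)
  have hB : IsUnit (algebraMap (Polynomial R) B Polynomial.X) ∧ IsUnit (algebraMap (Polynomial R) B ft) := by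
    have h := IsLocalization.Away.algebraMap_isUnit (S := B) ((Polynomial.X : Polynomial R) * ft)
    rw [map_mul] at h
    exact IsUnit.mul_iff.1 h
  let ub : B := algebraMap (Polynomial R) B Polynomial.X
  let θ : Polynomial R →+* B := Polynomial.eval₂RingHom (algebraMap R B) ↑hB.1.unit⁻¹
  have hθ : IsUnit (θ f) := by
    letI : Invertible (↑hB.1.unit⁻¹ : B) := ⟨↑hB.1.unit, by simp, by simp⟩
    have h := Polynomial.eval₂_reverse_mul_pow (algebraMap R B) (↑hB.1.unit⁻¹ : B) f
    show IsUnit (Polynomial.eval₂ (algebraMap R B) (↑hB.1.unit⁻¹ : B) f)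
    rw [← h]
    refine IsUnit.mul ?_ ((Units.isUnit _).pow _)
    show IsUnit (Polynomial.eval₂ (algebraMap R B) (↑hB.1.unit : B) ft)
    rw [IsUnit.unit_spec, ← Polynomial.aeval_def, Polynomial.aeval_algebraMap_apply]
    simpa using hB.2
  obtain ⟨lO, hlO⟩ := exists_lift_compl I hfI (Spec.map (CommRingCat.ofHom θ)) fun x hx =>
    (PrimeSpectrum.isPrime x).ne_top (Ideal.eq_top_of_isUnit_mem _ hx hθ)
  obtain ⟨τ, hτ⟩ := exists_point e (lO ≫ s)
  have hτ' : τ ≫ P.X.hom = O.hom ≫ pL R := by
    rw [hτ, ← Category.assoc, Category.assoc lO, hs, hlO]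
    show _ = Spec.map _ ≫ Spec.map _
    rw [← Spec.map_comp, ← Spec.map_comp]
    congr 1
    refine CommRingCat.hom_ext (RingHom.ext fun c => ?_)
    show θ (algebraMap R (Polynomial R) c) = algebraMap (Polynomial R) B (algebraMap R (Polynomial R) c)
    rw [← IsScalarTower.algebraMap_apply R (Polynomial R) B]
    simp [θ, Polynomial.algebraMap_apply]
  let σ : O ⟶ Red.bc (pL R) P.X := Over.homMk (pullback.lift τ O.hom hτ') (pullback.lift_snd _ _ _)
  obtain ⟨o1⟩ := exists_to_basic (Polynomial.X : Polynomial R) (T := O) fun x hx =>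
    notMem_of_hom_basic _ (𝟙 O) x (Ideal.mul_mem_right _ _ hx)
  obtain ⟨o2⟩ := exists_to_basic ft (T := O) fun x hx =>
    notMem_of_hom_basic _ (𝟙 O) x (Ideal.mul_mem_left _ _ hx)
  have hft0 : ft.coeff 0 = 1 := by
    show f.reverse.coeff 0 = 1
    rw [Polynomial.coeff_zero_reverse, hf.leadingCoeff]
  obtain ⟨Y, ε, s2, hε⟩ := exists_glued (P.act.bc (pL R)) (NonAbH1.isTorsorFor_bc _ _ P.isTorsor) U1 U2 O o1 o2
    (fun T a b => exists_to_basic _ fun x hx => ((PrimeSpectrum.isPrime (T.hom x)).mem_or_mem hx).elim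
      (notMem_of_hom_basic _ a x) (notMem_of_hom_basic _ b x))
    (fun x => by
      rw [range_basic, range_basic]
      by_contra hx
      obtain ⟨h1, h2⟩ := not_or.1 hx
      change ¬ (Polynomial.X : Polynomial R) ∉ PrimeSpectrum.asIdeal x at h1
      change ¬ ft ∉ PrimeSpectrum.asIdeal x at h2
      rw [not_not] at h1 h2
      refine (PrimeSpectrum.isPrime x).ne_top ((Ideal.eq_top_iff_one _).2 ?_)
      have h3 := Ideal.sub_mem _ h2 (Ideal.mul_mem_right ft.divX _ h1)
      have h4 : ft - Polynomial.X * ft.divX = 1 := by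
        rw [sub_eq_iff_eq_add]
        conv_lhs => rw [← ft.X_mul_divX_add]
        rw [hft0, map_one, add_comm]
      rwa [h4] at h3)
    σ
  -- `Y` is trivial over every localisation
  have hYloc : ∀ (m : Ideal R) [m.IsMaximal], NonAbH1.HasSectionOver Y.X (q m) := by
    intro m _
    refine hloc m Y Polynomial.X Polynomial.monic_X ?_
    obtain ⟨σm, hσm⟩ := hXloc m
    let c0 := Spec.map (CommRingCat.ofHom (algebraMap (Localization.AtPrime m) (Polynomial (Localization.AtPrime m))))
    obtain ⟨pm, hpm⟩ := exists_point e (Spec.map (CommRingCat.ofHom (Polynomial.evalRingHom (0 : Localization.AtPrime m))) ≫ σm)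
    let W := compl (Ideal.span {(Polynomial.X : Polynomial (Localization.AtPrime m))})
    let T : Over (Spec (CommRingCat.of (Polynomial R))) := Over.mk (W.ι ≫ q m)
    obtain ⟨v⟩ := exists_to_basic (Polynomial.X : Polynomial R) (T := T) fun x hx => by
      have hx' : W.ι x ∈ (W : Set _) := by
        rw [← Scheme.Opens.range_ι]; exact ⟨x, rfl⟩
      refine hx' (SetLike.coe_subset_coe.2 ((Ideal.span_singleton_le_iff_mem _).2 ?_))
      have h1 : Polynomial.mapRingHom (algebraMap R (Localization.AtPrime m)) Polynomial.X ∈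
          PrimeSpectrum.asIdeal (W.ι x) := hx
      simpa using h1
    have hp : (W.ι ≫ c0 ≫ pm) ≫ P.X.hom = (W.ι ≫ q m) ≫ pL R := by
      rw [Category.assoc, Category.assoc, hpm, Category.assoc W.ι (q m)]
      refine congrArg (W.ι ≫ ·) ?_
      rw [Category.assoc, reassoc_of% hσm, ← Spec.map_comp, ← Spec.map_comp, ← Spec.map_comp]
      congr 1
      refine CommRingCat.hom_ext (RingHom.ext fun c => ?_)
      simp [Polynomial.algebraMap_apply]
    let pt0 : T ⟶ Red.bc (pL R) P.X :=
      Over.homMk (pullback.lift (W.ι ≫ c0 ≫ pm) (W.ι ≫ q m) hp) (pullback.lift_snd _ _ _)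
    exact ⟨(lift pt0 v ≫ ε).left, Over.w (lift pt0 v ≫ ε)⟩
  obtain ⟨PY, ⟨eY⟩⟩ := descends_of_local Y hYloc
  -- `Y` is trivial at zero, hence everywhere
  obtain ⟨v0⟩ := exists_to_basic ft (T := Over.mk (zL R)) fun x hx => by
    refine (PrimeSpectrum.isPrime x).ne_top ((Ideal.eq_top_iff_one _).2 ?_)
    have h1 : Polynomial.evalRingHom (0 : R) ft ∈ PrimeSpectrum.asIdeal x := hx
    rw [Polynomial.coe_evalRingHom, ← Polynomial.coeff_zero_eq_eval_zero, hft0] at h1
    exact h1
  obtain ⟨πY, hπY⟩ := exists_point eY (v0 ≫ s2).left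
  have hπY' : πY ≫ PY.X.hom = 𝟙 _ := by
    rw [hπY, ← Category.assoc, Over.w (v0 ≫ s2)]
    exact zL_over R
  -- evaluate the section at one
  let z1 : Spec (CommRingCat.of R) ⟶ Spec (CommRingCat.of (Polynomial R)) :=
    Spec.map (CommRingCat.ofHom (Polynomial.evalRingHom (1 : R)))
  have hz1 : z1 ≫ pL R = 𝟙 _ := by
    rw [← Spec.map_comp, ← CommRingCat.ofHom_comp,
      show (Polynomial.evalRingHom (1 : R)).comp (algebraMap R (Polynomial R)) = RingHom.id R from
        RingHom.ext fun c => by simp]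
    exact Spec.map_id _
  let T1 : Over (Spec (CommRingCat.of (Polynomial R))) := Over.mk z1
  obtain ⟨v1⟩ := exists_to_basic (Polynomial.X : Polynomial R) (T := T1) fun x hx => by
    refine (PrimeSpectrum.isPrime x).ne_top ((Ideal.eq_top_iff_one _).2 ?_)
    have h1 : Polynomial.evalRingHom (1 : R) Polynomial.X ∈ PrimeSpectrum.asIdeal x := hx
    simpa using h1
  let y1 : T1 ⟶ Y.X :=
    (Over.homMk (pullback.lift πY z1 (hπY'.trans hz1.symm)) (pullback.lift_snd _ _ _) : T1 ⟶ Red.bc (pL R) PY.X) ≫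
      eY.iso.hom
  obtain ⟨p1, -⟩ := hε T1 y1 v1
  have hp1 : (p1.left ≫ pullback.fst P.X.hom (pL R)) ≫ P.X.hom = 𝟙 _ := by
    rw [Category.assoc, pullback.condition, ← Category.assoc]
    exact (congrArg (· ≫ pL R) (Over.w p1)).trans hz1
  let sX : Over.mk (𝟙 (Spec (CommRingCat.of (Polynomial R)))) ⟶ X.X :=
    (Over.homMk (pullback.lift (pL R ≫ p1.left ≫ pullback.fst P.X.hom (pL R)) (𝟙 _) (by
      rw [Category.assoc, hp1]
      exact (Category.comp_id _).trans (Category.id_comp _).symm)) (pullback.lift_snd _ _ _) :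
      Over.mk (𝟙 (Spec (CommRingCat.of (Polynomial R)))) ⟶ Red.bc (pL R) P.X) ≫ e.iso.hom
  exact ⟨sX.left, Over.w sX⟩

end TorsLineGlueLib
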