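import Groth.Agent.TorsPatchLib.Ideal
import Groth.Agent.SpreadLocLib.Spread
import Groth.Agent.TorsFpqcLib.Basic
import Mathlib.AlgebraicGeometry.Morphisms.LocalFlatDescent
import Mathlib.RingTheory.Polynomial.IsIntegral

/-!
# Torsors on the affine line which are trivial over every localisation
-/

set_option autoImplicit false
set_option backward.isDefEq.respectTransparency false
set_option maxHeartbeats 400000
universe u

open CategoryTheory CategoryTheory.Limits MonoidalCategory CartesianMonoidalCategory AlgebraicGeometry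
open scoped MonObj
open TorsSeqLib (act act_one act_mul comp_act)
open TorsPatchLib

attribute [-instance] CategoryTheory.Hom.commGroup

noncomputable section

namespace TorsLineGlueLib

/-- A section gives a frame. -/
theorem frame_of_section {S : Scheme.{u}} {G : Over S} [GrpObj G] {D : Fam G} {W : Over S} {w : W ⟶ D.A}
    (σ : W ⟶ D.X) (hσ : σ ≫ D.π = w) (e : W ⟶ W) (he : e ≫ w = toUnit W ≫ D.zero) :
    ∃ y, IsFrame D w y := by
  obtain ⟨k, hk⟩ := D.exists_act (snd D.T1 W ≫ e ≫ σ) (fst D.T1 W ≫ D.x1) (by
    rw [Category.assoc, Category.assoc, Category.assoc, hσ, he, D.x1π, comp_toUnit_assoc, comp_toUnit_assoc])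
  refine ⟨TorsSeqLib.act D.a k (snd D.T1 W ≫ σ), (D.act_π _ _).trans (by rw [Category.assoc, hσ]), fun t t' v => ?_⟩
  have h1 : ∀ t, TorsSeqLib.act D.a (lift t v ≫ k) (v ≫ e ≫ σ) = t ≫ D.x1 := fun t => by
    have h := congrArg (lift t v ≫ ·) hk
    simp only [comp_act, lift_snd_assoc, lift_fst_assoc] at h
    exact h
  rw [comp_act, comp_act, lift_snd_assoc, lift_snd_assoc, ← act_mul]
  congr 1
  refine D.cancel (x := v ≫ e ≫ σ) ?_
  rw [h1, act_mul, h1, d_spec]

variable (R : Type u) [CommRing R]

/-- The projection of the affine line. -/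
abbrev pL : Spec (CommRingCat.of (Polynomial R)) ⟶ Spec (CommRingCat.of R) :=
  Spec.map (CommRingCat.ofHom (algebraMap R (Polynomial R)))

/-- The zero section of the affine line. -/
abbrev zL : Spec (CommRingCat.of R) ⟶ Spec (CommRingCat.of (Polynomial R)) :=
  Spec.map (CommRingCat.ofHom (Polynomial.evalRingHom (0 : R)))

theorem zL_over : zL R ≫ pL R = 𝟙 (Spec (CommRingCat.of R)) := by
  rw [← Spec.map_comp, ← CommRingCat.ofHom_comp,
    show (Polynomial.evalRingHom (0 : R)).comp (algebraMap R (Polynomial R)) = RingHom.id R from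
      RingHom.ext fun c => by simp]
  exact Spec.map_id _

/-- `Spec R'[X]` over `Spec R`, mapped to the line. -/
def wL (R' : Type u) [CommRing R'] [Algebra R R'] :
    pt (𝟙 (Spec (CommRingCat.of R))) (Polynomial R') ⟶ Over.mk (pL R) :=
  Over.homMk (Spec.map (CommRingCat.ofHom (Polynomial.mapRingHom (algebraMap R R')))) (by
    show Spec.map _ ≫ Spec.map _ = Spec.map _ ≫ 𝟙 _
    rw [Category.comp_id, ← Spec.map_comp, ← CommRingCat.ofHom_comp]
    congr 2
    ext c
    simp [Polynomial.algebraMap_apply])

/-- `X ↦ 0`. -/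
def ez (R' : Type u) [CommRing R'] [Algebra R R'] : Polynomial R' →ₐ[R] Polynomial R' :=
  PatchLib.sub₁ PatchLib.cst 0

/-- The homotopy. -/
def htL (R' : Type u) [CommRing R'] [Algebra R R'] : Polynomial R' →ₐ[R] Polynomial (Polynomial R') :=
  PatchLib.sub₁ (PatchLib.cst.comp PatchLib.cst) (Polynomial.C (Polynomial.X : Polynomial R') * Polynomial.X)

variable {R}

theorem ez_wL (R' : Type u) [CommRing R'] [Algebra R R'] :
    ptm (𝟙 _) (ez R R') ≫ wL R R' = toUnit _ ≫ zeroPt (zL R) (zL_over R) := by
  refine Over.OverMorphism.ext ?_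
  rw [toUnit_zeroPt]
  show Spec.map _ ≫ Spec.map _ = (Spec.map _ ≫ 𝟙 _) ≫ Spec.map _
  rw [Category.comp_id, ← Spec.map_comp, ← Spec.map_comp]
  congr 1
  refine CommRingCat.hom_ext (Polynomial.ringHom_ext (fun c => ?_) ?_)
  · simp [ez, Polynomial.algebraMap_apply]
  · simp [ez]

variable {G : Over (Spec (CommRingCat.of R))} [GrpObj G] [LocallyOfFinitePresentation G.hom]
  (Z : NonAbH1.TorsorSch (Red.bc (pL R) G) Scheme.fppfPrecoverage)
  {R1 : Type u} [CommRing R1] [Algebra R R1]
  (x0 : pt (𝟙 (Spec (CommRingCat.of R))) R1 ⟶ (fibre (zL R) (zL_over R) Z).X)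

/-- There is a frame over `Spec R'[X]`. -/
def GoodL (R' : Type u) [CommRing R'] [Algebra R R'] : Prop :=
  ∃ y, IsFrame (fam (zL R) (zL_over R) Z x0) (wL R R') y

theorem goodL_map {R'' : Type u} [CommRing R''] [Algebra R R''] {C : Type u} [CommRing C] [Algebra R C]
    (φ : Polynomial R'' →ₐ[R] C) {w : pt (𝟙 (Spec (CommRingCat.of R))) C ⟶ Over.mk (pL R)}
    (hw : ptm (𝟙 _) φ ≫ wL R R'' = w) (h : GoodL Z x0 R'') :
    ∃ y, IsFrame (fam (zL R) (zL_over R) Z x0) w y :=
  exists_frame_pull (D := fam (zL R) (zL_over R) Z x0) (ptm (𝟙 _) φ) hw h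

theorem goodL_add (r r' : R) (h : GoodL Z x0 (Localization.Away r)) (h' : GoodL Z x0 (Localization.Away r'))
    (R' : Type u) [CommRing R'] [Algebra R R'] (hu : IsUnit (algebraMap R R' (r + r'))) : GoodL Z x0 R' := by
  have hspan : Ideal.span ({algebraMap R (Polynomial R') r', algebraMap R (Polynomial R') r} :
      Set (Polynomial R')) = ⊤ := by
    refine Ideal.eq_top_of_isUnit_mem _ (x := algebraMap R (Polynomial R') (r + r')) ?_ ?_
    · rw [map_add]
      exact Ideal.add_mem _ (Ideal.subset_span (by simp)) (Ideal.subset_span (by simp))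
    · rw [IsScalarTower.algebraMap_apply R R' (Polynomial R')]
      exact hu.map _
  have piece : ∀ (t : R) (C : Type u) [CommRing C] [Algebra R C] [Algebra (Polynomial R') C]
      [IsScalarTower R (Polynomial R') C] (_ : IsUnit (algebraMap R C t))
      (_ : GoodL Z x0 (Localization.Away t)),
      ∃ y, IsFrame (fam (zL R) (zL_over R) Z x0)
        (ptm (𝟙 _) (IsScalarTower.toAlgHom R (Polynomial R') C) ≫ wL R R') y := by
    intro t C _ _ _ _ hut hg
    let φ : Localization.Away t →ₐ[R] C :=
      IsLocalization.liftAlgHom (M := Submonoid.powers t) (f := Algebra.ofId R C) (by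
        rintro ⟨_, k, rfl⟩
        simpa using hut.pow k)
    refine goodL_map Z x0 (PatchLib.sub₁ φ (algebraMap (Polynomial R') C Polynomial.X)) ?_ hg
    refine Over.OverMorphism.ext ?_
    show Spec.map _ ≫ Spec.map _ = Spec.map _ ≫ Spec.map _
    rw [← Spec.map_comp, ← Spec.map_comp]
    congr 1
    refine CommRingCat.hom_ext (Polynomial.ringHom_ext (fun c => ?_) ?_)
    · simp only [CommRingCat.hom_comp, CommRingCat.hom_ofHom, RingHom.comp_apply, Polynomial.coe_mapRingHom,
        Polynomial.map_C]
      show PatchLib.sub₁ φ _ (Polynomial.C (algebraMap R (Localization.Away t) c)) =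
        IsScalarTower.toAlgHom R (Polynomial R') C (Polynomial.C (algebraMap R R' c))
      rw [PatchLib.sub₁_C, φ.commutes, ← Polynomial.algebraMap_eq, ← IsScalarTower.algebraMap_apply, AlgHom.commutes]
    · simp
  refine patch' (z := zL R) (hz := zL_over R) (x0 := x0) (wL R R')
    (algebraMap R (Polynomial R') r) (algebraMap R (Polynomial R') r') hspan
    (Localization.Away (algebraMap R (Polynomial R') r)) (Localization.Away (algebraMap R (Polynomial R') r'))
    (Localization.Away (algebraMap R (Polynomial R') r' * algebraMap R (Polynomial R') r))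
    (ez R R') (PatchLib.algHom_ext (fun c => by simp [ez]) (by simp [ez])) (ez_wL R')
    (htL R R') (PatchLib.algHom_ext (fun c => by simp [ez, htL]) (by simp [ez, htL]))
    (PatchLib.algHom_ext (fun c => by simp [htL]) (by simp [htL]))
    ((ez R R').commutes r) ((ez R R').commutes r') ((htL R R').commutes r) ((htL R R').commutes r') ?_ ?_
  · refine piece r _ ?_ h
    have e := IsLocalization.Away.algebraMap_isUnit
      (S := Localization.Away (algebraMap R (Polynomial R') r)) (algebraMap R (Polynomial R') r)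
    rwa [← IsScalarTower.algebraMap_apply] at e
  · refine piece r' _ ?_ h'
    have e := IsLocalization.Away.algebraMap_isUnit
      (S := Localization.Away (algebraMap R (Polynomial R') r')) (algebraMap R (Polynomial R') r')
    rwa [← IsScalarTower.algebraMap_apply] at e

omit [LocallyOfFinitePresentation G.hom] in
theorem goodL_of_subsingleton (R' : Type u) [CommRing R'] [Algebra R R'] [Subsingleton R'] : GoodL Z x0 R' := by
  have hP : Subsingleton (Polynomial R') := inferInstance
  haveI : IsEmpty (PrimeSpectrum (Polynomial R')) := inferInstance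
  exact exists_frame_of_isEmpty (D := fam (zL R) (zL_over R) Z x0) (wL R R')
    (inferInstanceAs (IsEmpty (PrimeSpectrum (Polynomial R'))))

/-- A point over the localised line spreads to a neighbourhood. -/
theorem exists_spread (m : Ideal R) [m.IsPrime]
    (hm : NonAbH1.HasSectionOver Z.X
      (Spec.map (CommRingCat.ofHom (Polynomial.mapRingHom (algebraMap R (Localization.AtPrime m)))))) :
    ∃ r : R, r ∉ m ∧ GoodL Z x0 (Localization.Away r) := by
  classical
  obtain ⟨σ, hσ⟩ := hm
  letI : Algebra (Polynomial R) (Polynomial (Localization.AtPrime m)) :=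
    (Polynomial.mapRingHom (algebraMap R (Localization.AtPrime m))).toAlgebra
  let M : Submonoid (Polynomial R) := m.primeCompl.map (Polynomial.C : R →+* Polynomial R)
  have : IsLocalization M (Polynomial (Localization.AtPrime m)) :=
    Polynomial.isLocalization m.primeCompl (Localization.AtPrime m)
  haveI : LocallyOfFinitePresentation Z.X.hom := by
    refine Groth.Agent.TorsFpqc.property_of_torsor @LocallyOfFinitePresentation Z.act
      ⟨Z.isTorsor.1, isLocallyTrivialFor_fpqc Z.isTorsor.2⟩ ?_
    exact inferInstanceAs (LocallyOfFinitePresentation (pullback.snd G.hom (pL R)))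
  let A := Polynomial (Localization.AtPrime m)
  let D := SpreadLocLib.diag M
  let cn := SpreadLocLib.cone M A
  let t : D ⟶ (Functor.const _).obj (Spec (CommRingCat.of (Polynomial R))) :=
    { app := fun k => (SpreadLocLib.nbhd M k.unop).ι
      naturality := fun k l f => by
        show D.map f ≫ (SpreadLocLib.nbhd M l.unop).ι = (SpreadLocLib.nbhd M k.unop).ι ≫ 𝟙 _
        rw [Category.comp_id]
        exact SpreadLocLib.diag_map_ι M f }
  haveI : ∀ k, CompactSpace (D.obj k) := fun k =>
    isCompact_iff_compactSpace.mp (SpreadLocLib.isAffineOpen_nbhd M k.unop).isCompact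
  haveI : ∀ k, QuasiSeparatedSpace (D.obj k) := fun k =>
    haveI : IsAffine (D.obj k) := SpreadLocLib.isAffineOpen_nbhd M k.unop
    inferInstance
  obtain ⟨k, g, hg, hgS⟩ := Scheme.exists_π_app_comp_eq_of_locallyOfFinitePresentation D t Z.X.hom cn
    (SpreadLocLib.isLimit M A) σ (by
      ext i : 2
      show cn.π.app i ≫ (SpreadLocLib.nbhd M i.unop).ι = σ ≫ Z.X.hom
      rw [SpreadLocLib.cone_app_ι, hσ]
      rfl)
  have hC : ∀ x : M, ∃ s : R, s ∉ m ∧ Polynomial.C s = (x : Polynomial R) := fun x => by
    obtain ⟨s, hs, hsx⟩ := x.2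
    exact ⟨s, hs, hsx⟩
  choose sx hsx hCx using hC
  let r : R := ∏ x ∈ k.unop, sx x
  have hr : r ∉ m := by
    intro h
    obtain ⟨x, -, hx⟩ := Ideal.IsPrime.prod_mem_iff.1 h
    exact hsx x hx
  refine ⟨r, hr, ?_⟩
  let R'' := Localization.Away r
  let q := Spec.map (CommRingCat.ofHom (Polynomial.mapRingHom (algebraMap R R'')))
  have hrange : Set.range q ⊆ Set.range (SpreadLocLib.nbhd M k.unop).ι := by
    rintro _ ⟨x, rfl⟩
    rw [Scheme.Opens.range_ι]
    show (∏ m ∈ k.unop, (m : Polynomial R)) ∉ Ideal.comap _ x.asIdeal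
    intro h
    have e : (∏ x ∈ k.unop, (x : Polynomial R)) = Polynomial.C r := by
      rw [map_prod]
      exact Finset.prod_congr rfl fun x _ => (hCx x).symm
    rw [e, Ideal.mem_comap] at h
    refine x.2.ne_top (Ideal.eq_top_of_isUnit_mem _ h ?_)
    show IsUnit (Polynomial.map (algebraMap R R'') (Polynomial.C r))
    rw [Polynomial.map_C]
    exact Polynomial.isUnit_C.2 (IsLocalization.Away.algebraMap_isUnit r)
  let g' := IsOpenImmersion.lift (SpreadLocLib.nbhd M k.unop).ι q hrange ≫ g
  have hg' : g' ≫ Z.X.hom = q := by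
    rw [Category.assoc, hgS]
    exact IsOpenImmersion.lift_fac _ _ _
  refine frame_of_section (D := fam (zL R) (zL_over R) Z x0) (W := pt (𝟙 _) (Polynomial R''))
    (Over.homMk g' ?_) ?_ (ptm (𝟙 _) (ez R R'')) (ez_wL R'')
  · show g' ≫ Z.X.hom ≫ pL R = _
    rw [← Category.assoc, hg']
    exact Over.w (wL R R'')
  · exact Over.OverMorphism.ext hg'

omit x0 in
/-- A torsor on the line which is trivial over every local line comes from the base. -/
theorem descends_of_local
    (h : ∀ (m : Ideal R) [m.IsMaximal], NonAbH1.HasSectionOver Z.X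
      (Spec.map (CommRingCat.ofHom (Polynomial.mapRingHom (algebraMap R (Localization.AtPrime m)))))) :
    ∃ P : NonAbH1.TorsorSch G Scheme.fppfPrecoverage, Nonempty (NonAbH1.EquivIso (P.act.bc (pL R)) Z.act) := by
  obtain ⟨R1, _, _, hT1, ⟨x0⟩⟩ := exists_affine_point (𝟙 (Spec (CommRingCat.of R)))
    (fibre (zL R) (zL_over R) Z).isTorsor.2
  let I : Ideal R :=
    { carrier := {r | GoodL Z x0 (Localization.Away r)}
      zero_mem' := by
        have : Subsingleton (Localization.Away (0 : R)) :=
          IsLocalization.subsingleton (M := Submonoid.powers (0 : R)) (Submonoid.mem_powers 0)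
        exact goodL_of_subsingleton Z x0 _
      add_mem' := fun {r r'} h h' => goodL_add Z x0 r r' h h' _ (IsLocalization.Away.algebraMap_isUnit (r + r'))
      smul_mem' := fun a r h => by
        show GoodL Z x0 (Localization.Away (a • r))
        have hu : IsUnit (algebraMap R (Localization.Away (a • r)) r) := by
          have := IsLocalization.Away.algebraMap_isUnit (S := Localization.Away (a • r)) (a • r)
          rw [smul_eq_mul, map_mul] at this
          exact (IsUnit.mul_iff.1 this).2
        let φ : Localization.Away r →ₐ[R] Localization.Away (a • r) :=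
          IsLocalization.liftAlgHom (M := Submonoid.powers r) (f := Algebra.ofId R _) (by
            rintro ⟨_, k, rfl⟩
            simpa using hu.pow k)
        refine goodL_map Z x0 (Polynomial.mapAlgHom φ) ?_ h
        refine Over.OverMorphism.ext ?_
        show Spec.map _ ≫ Spec.map _ = Spec.map _
        rw [← Spec.map_comp]
        congr 1
        refine CommRingCat.hom_ext (Polynomial.ringHom_ext (fun c => ?_) ?_) <;> simp }
  have h1 : (1 : R) ∈ I := by
    rw [← Ideal.eq_top_iff_one]
    by_contra hne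
    obtain ⟨m, hm, hIm⟩ := Ideal.exists_le_maximal I hne
    haveI := hm
    obtain ⟨r, hr, hgood⟩ := exists_spread Z x0 m (h m)
    exact hr (hIm hgood)
  let e := (IsLocalization.atOne R (Localization.Away (1 : R))).symm
  obtain ⟨y, hy⟩ := goodL_map Z x0 (Polynomial.mapAlgHom (e : Localization.Away (1 : R) →ₐ[R] R)) (w := wL R R) (by
    refine Over.OverMorphism.ext ?_
    show Spec.map _ ≫ Spec.map _ = Spec.map _
    rw [← Spec.map_comp]
    congr 1
    refine CommRingCat.hom_ext (Polynomial.ringHom_ext (fun c => ?_) ?_) <;> simp) h1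
  let gI : Over.mk (pL R) ⟶ pt (𝟙 _) (Polynomial R) := Over.homMk (𝟙 _) (by
    show 𝟙 _ ≫ pL R ≫ 𝟙 _ = pL R
    rw [Category.comp_id, Category.id_comp])
  refine nonempty_equivIso _ (zL_over R) Z x0 hT1 _ (hy.pull gI (w' := 𝟙 (Over.mk (pL R))) ?_)
  refine Over.OverMorphism.ext ?_
  show 𝟙 _ ≫ Spec.map _ = 𝟙 _
  rw [Category.id_comp, Algebra.algebraMap_self, Polynomial.mapRingHom_id]
  exact Spec.map_id _

end TorsLineGlueLib
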